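import Groth.Agent.Lib.Inert16.Triv
import Mathlib.FieldTheory.Minpoly.Field
import Mathlib.Algebra.MvPolynomial.Funext
import Mathlib.LinearAlgebra.Matrix.ToLinearEquiv

/-!
# Geometric points over one point of the quotient are conjugate
-/

universe u

set_option linter.style.haveILetI false

open TensorProduct WithConv HopfRep Matrix

namespace GrothLib.Inert16

variable {R : Type u} [CommRing R] {A : Type u} [CommRing A] [HopfAlgebra R A]
  {B : Type u} [CommRing B] [Algebra R B] [Comod R A B] [GLin.IsCoactAlg R A B]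

section Sys

variable {K : Type u} [CommRing K] [Algebra R K] {io : Type} [Fintype io] [DecidableEq io]
  (S : GrpdQuot.Sys (FiniteQuot.src R A B).toRingHom io) (x : B →ₐ[R] K)

omit [Comod R A B] [GLin.IsCoactAlg R A B] in
/-- A dual system, evaluated at a point of the base. -/
theorem exists_sys : ∃ T : GrpdQuot.Sys (Algebra.TensorProduct.includeLeft : K →ₐ[R] K ⊗[R] A).toRingHom io,
    ∀ w : B ⊗[R] A, T.mat (Algebra.TensorProduct.map x (AlgHom.id R A) w) = (S.mat w).map x := by
  classical
  have hs : ∀ k (r : R) (z : B ⊗[R] A), S.φ k (r • z) = r • S.φ k z := fun k r z => by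
    rw [Algebra.smul_def r z, Algebra.smul_def r (S.φ k z), ← S.φ_smul]
    rfl
  let φK : io → (K ⊗[R] A →ₗ[K] K) := fun k => LinearMap.liftBaseChange K
    { toFun := fun a => x (S.φ k ((1 : B) ⊗ₜ a))
      map_add' := fun a a' => by rw [TensorProduct.tmul_add, map_add, map_add]
      map_smul' := fun r a => by
        rw [TensorProduct.tmul_smul, hs k r, map_smul, RingHom.id_apply] }
  have hφ : ∀ k (w : B ⊗[R] A), φK k (Algebra.TensorProduct.map x (AlgHom.id R A) w) = x (S.φ k w) := fun k w => by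
    induction w using TensorProduct.induction_on with
    | zero => simp
    | tmul b a =>
      rw [Algebra.TensorProduct.map_tmul, LinearMap.liftBaseChange_tmul]
      change x b * x (S.φ k ((1 : B) ⊗ₜ a)) = _
      rw [← map_mul, ← S.φ_smul]
      congr 2
      change (b ⊗ₜ[R] (1 : A)) * (1 ⊗ₜ a) = _
      rw [Algebra.TensorProduct.tmul_mul_tmul, mul_one, one_mul]
    | add p q hp hq => simp only [map_add, hp, hq]
  refine ⟨{ b := fun k => Algebra.TensorProduct.map x (AlgHom.id R A) (S.b k)
            φ := fun k => (φK k).toAddMonoidHom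
            φ_smul := fun k c z => ?_
            expand := fun z => ?_ }, fun w => ?_⟩
  · change φK k ((c ⊗ₜ[R] (1 : A)) * z) = c * φK k z
    rw [show (c ⊗ₜ[R] (1 : A)) * z = c • z from (Algebra.smul_def c z).symm, map_smul, smul_eq_mul]
  · change ∑ k, (φK k z ⊗ₜ[R] (1 : A)) * _ = z
    induction z using TensorProduct.induction_on with
    | zero => simp
    | tmul c a =>
      have h := congrArg (Algebra.TensorProduct.map x (AlgHom.id R A)) (S.expand ((1 : B) ⊗ₜ a))
      rw [map_sum, Algebra.TensorProduct.map_tmul, map_one, AlgHom.id_apply] at h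
      conv_rhs => rw [show c ⊗ₜ[R] a = (c ⊗ₜ (1 : A)) * ((1 : K) ⊗ₜ a) by simp, ← h, Finset.mul_sum]
      refine Finset.sum_congr rfl fun k _ => ?_
      rw [map_mul, ← mul_assoc, LinearMap.liftBaseChange_tmul]
      congr 1
      change (c • x (S.φ k ((1 : B) ⊗ₜ a))) ⊗ₜ[R] (1 : A) = (c ⊗ₜ[R] (1 : A)) *
        (x (S.φ k ((1 : B) ⊗ₜ a)) ⊗ₜ[R] (1 : A))
      rw [Algebra.TensorProduct.tmul_mul_tmul, mul_one, smul_eq_mul]
    | add p q hp hq => simp only [map_add, TensorProduct.add_tmul, add_mul, Finset.sum_add_distrib, hp, hq]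
  · ext k m
    change φK k (Algebra.TensorProduct.map x (AlgHom.id R A) w * Algebra.TensorProduct.map x (AlgHom.id R A) (S.b m)) = _
    rw [← map_mul, hφ]
    rfl

end Sys

/-- The values at the geometric points of the group detect the vanishing of the norm. -/
theorem det_eq_zero_iff {K : Type u} [Field K] [IsAlgClosed K] [Algebra R K] [Module.Finite R A]
    {io : Type} [Fintype io] [DecidableEq io]
    (T : GrpdQuot.Sys (Algebra.TensorProduct.includeLeft : K →ₐ[R] K ⊗[R] A).toRingHom io) (y : K ⊗[R] A) :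
    (1 + T.mat (y - 1)).det = 0 ↔ ∃ g : A →ₐ[R] K, Algebra.TensorProduct.lift (AlgHom.id R K) g
      (fun _ _ => Commute.all _ _) y = 0 := by
  classical
  haveI : Module.Finite K (K ⊗[R] A) := Module.Finite.base_change R K A
  refine ⟨fun hdet => ?_, fun ⟨g, hg⟩ => ?_⟩
  · by_cases hu : IsUnit y
    · obtain ⟨u, rfl⟩ := hu
      exfalso
      have h : (1 + T.mat ((u : K ⊗[R] A) - 1)) * (1 + T.mat ((↑u⁻¹ : K ⊗[R] A) - 1)) = 1 := by
        simp only [add_mul, mul_add, one_mul, mul_one, T.mat_mul]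
        rw [show ((u : K ⊗[R] A) - 1) * ((↑u⁻¹ : K ⊗[R] A) - 1) =
          -(((u : K ⊗[R] A) - 1) + ((↑u⁻¹ : K ⊗[R] A) - 1)) from by linear_combination u.mul_inv]
        rw [show T.mat (-(((u : K ⊗[R] A) - 1) + ((↑u⁻¹ : K ⊗[R] A) - 1))) =
          -(T.mat ((u : K ⊗[R] A) - 1) + T.mat ((↑u⁻¹ : K ⊗[R] A) - 1)) from by
            rw [← zero_sub, T.mat_sub, T.mat_zero, T.mat_add, zero_sub]]
        abel
      have h2 := congrArg Matrix.det h
      rw [Matrix.det_mul, hdet, zero_mul, Matrix.det_one] at h2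
      exact zero_ne_one h2
    · obtain ⟨m, hm, hym⟩ := exists_max_ideal_of_mem_nonunits hu
      haveI := hm
      letI := Ideal.Quotient.field m
      haveI : Module.Finite K ((K ⊗[R] A) ⧸ m) := Module.Finite.quotient K m
      let e : K ≃ₐ[K] (K ⊗[R] A) ⧸ m := AlgEquiv.ofBijective (Algebra.ofId K _)
        IsAlgClosed.algebraMap_bijective_of_isIntegral
      let χ : K ⊗[R] A →ₐ[K] K := e.symm.toAlgHom.comp (Ideal.Quotient.mkₐ K m)
      refine ⟨(χ.restrictScalars R).comp Algebra.TensorProduct.includeRight, ?_⟩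
      have he : Algebra.TensorProduct.lift (AlgHom.id R K) ((χ.restrictScalars R).comp Algebra.TensorProduct.includeRight)
          (fun _ _ => Commute.all _ _) = χ.restrictScalars R := Algebra.TensorProduct.ext' fun c a => by
        rw [Algebra.TensorProduct.lift_tmul]
        change c * χ ((1 : K) ⊗ₜ a) = χ (c ⊗ₜ a)
        rw [← smul_eq_mul, ← map_smul, TensorProduct.smul_tmul', smul_eq_mul, mul_one]
      rw [he]
      change e.symm (Ideal.Quotient.mk m y) = 0
      rw [Ideal.Quotient.eq_zero_iff_mem.2 hym, map_zero]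
  · set φ := (Algebra.TensorProduct.lift (AlgHom.id R K) g (fun _ _ => Commute.all _ _)).toRingHom
    have hcomp : φ.comp (Algebra.TensorProduct.includeLeft : K →ₐ[R] K ⊗[R] A).toRingHom = RingHom.id K :=
      RingHom.ext fun c => by simp [φ]
    have h := T.vecMul_mat_comp φ (y - 1)
    rw [hcomp, map_sub, map_one, show φ y = 0 from hg, zero_sub, neg_one_smul] at h
    refine Matrix.exists_vecMul_eq_zero_iff.1 ⟨φ ∘ T.b, fun h0 => ?_, ?_⟩
    · have h1 := congrArg φ (T.expand 1)
      rw [map_sum, map_one] at h1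
      refine zero_ne_one (α := K) (Eq.trans ?_ h1)
      refine (Finset.sum_eq_zero fun k _ => ?_).symm
      rw [map_mul, show φ (T.b k) = 0 from congrFun h0 k, mul_zero]
    · rw [Matrix.vecMul_add, Matrix.vecMul_one]
      have h' : (φ ∘ T.b) ᵥ* T.mat (y - 1) = -(φ ∘ T.b) := by simpa using h
      rw [h', add_neg_cancel]

/-- Finitely many nonzero linear forms have a common non-zero point over an infinite field. -/
theorem exists_forall_sum_ne_zero {K : Type*} [Field K] [Infinite K] {ι J : Type*} [Fintype ι] [Fintype J]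
    (v : ι → J → K) (hv : ∀ i, v i ≠ 0) : ∃ c : J → K, ∀ i, ∑ j, c j * v i j ≠ 0 := by
  classical
  let P : MvPolynomial J K := ∏ i, ∑ j, MvPolynomial.C (v i j) * MvPolynomial.X j
  have hP : P ≠ 0 := Finset.prod_ne_zero_iff.2 fun i _ h => hv i (funext fun j => by
    have h2 := congrArg (MvPolynomial.eval (Pi.single j (1 : K))) h
    simp only [map_sum, map_mul, MvPolynomial.eval_C, MvPolynomial.eval_X, map_zero] at h2
    rw [Finset.sum_eq_single j (fun b _ hb => by rw [Pi.single_eq_of_ne hb, mul_zero]) (by simp),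
      Pi.single_eq_same, mul_one] at h2
    exact h2)
  obtain ⟨c, hc⟩ : ∃ c : J → K, MvPolynomial.eval c P ≠ 0 := by
    by_contra! h
    exact hP (MvPolynomial.funext fun c => by rw [h, map_zero])
  refine ⟨c, fun i h0 => hc ?_⟩
  rw [map_prod]
  refine Finset.prod_eq_zero (Finset.mem_univ i) ?_
  simpa [mul_comm] using h0

/-- Two geometric points which agree on the invariants differ by a point of the group. -/
theorem exists_point [Module.Finite R A] [Module.Projective R A] {K : Type u} [Field K] [IsAlgClosed K]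
    [Algebra R K] (u₀ u₁ : B →ₐ[R] K) (h : ∀ b ∈ GLin.invariants R A B, u₀ b = u₁ b) :
    ∃ g : A →ₐ[R] K, act u₀ g = u₁ := by
  classical
  by_contra! hne
  haveI : Module.Finite K (K ⊗[R] A) := Module.Finite.base_change R K A
  let e : (A →ₐ[R] K) → (K ⊗[R] A →ₐ[K] K) := fun g =>
    Algebra.TensorProduct.lift (AlgHom.id K K) g (fun _ _ => Commute.all _ _)
  haveI : Finite (A →ₐ[R] K) := Finite.of_injective e fun g g' hgg => AlgHom.ext fun a => by
    have := AlgHom.congr_fun hgg ((1 : K) ⊗ₜ[R] a)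
    simpa [e] using this
  letI := Fintype.ofFinite (A →ₐ[R] K)
  have hsep : ∀ g : A →ₐ[R] K, ∃ a : B, act u₀ g a ≠ u₁ a := fun g => by
    by_contra! h0
    exact hne g (AlgHom.ext h0)
  choose a ha using hsep
  obtain ⟨c, hc⟩ := exists_forall_sum_ne_zero (fun (g : A →ₐ[R] K) g' => act u₀ g (a g') - u₁ (a g'))
    (fun g h0 => ha g (sub_eq_zero.1 (congrFun h0 g)))
  let a' : Option (A →ₐ[R] K) → B := fun o => o.elim 1 a
  let c' : Option (A →ₐ[R] K) → K := fun o => o.elim (-(∑ j, c j * u₁ (a j)) - 1) c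
  haveI : Module.Finite R A := inferInstance
  obtain ⟨m, ⟨S⟩⟩ := @GrpdQuot.Sys.exists_of_projective _ _ _ _ (FiniteQuot.gdata R A B).s
    finite_src' projective_src'
  let E := Fintype.equivFin (Option (A →ₐ[R] K))
  have hagree := GrpdQuot.GData.det_eq_of_agree (FiniteQuot.gdata R A B) S (a' ∘ E.symm) u₀.toRingHom u₁.toRingHom
    (fun b hb => h b ((FiniteQuot.mem_inv_iff b).1 hb)) (c' ∘ E.symm)
  let Y : (B →ₐ[R] K) → K ⊗[R] A := fun u => 1 + ∑ j, c' j • orb (A := A) u (a' j)
  have hY : ∀ u : B →ₐ[R] K, ((1 : Matrix (Fin m) (Fin m) K) +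
      ∑ j, c' j • (S.mat (GLin.coactAlgHom R A B (a' j))).map u).det = 0 ↔
        ∃ g : A →ₐ[R] K, 1 + ∑ j, c' j * act u g (a' j) = 0 := by
    intro u
    obtain ⟨T, hT⟩ := exists_sys S u
    have hlin : T.mat (Y u - 1) = ∑ j, c' j • (S.mat (GLin.coactAlgHom R A B (a' j))).map u := by
      let matHom : K ⊗[R] A →+ Matrix (Fin m) (Fin m) K := AddMonoidHom.mk' T.mat T.mat_add
      rw [add_sub_cancel_left, show T.mat (∑ j, c' j • orb (A := A) u (a' j)) =
        ∑ j, T.mat (c' j • orb (A := A) u (a' j)) from map_sum matHom _ _]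
      refine Finset.sum_congr rfl fun j _ => ?_
      rw [Algebra.smul_def]
      exact (T.mat_smul (c' j) _).trans (congrArg (c' j • ·) (hT _))
    rw [← hlin, det_eq_zero_iff]
    refine exists_congr fun g => ?_
    rw [map_add, map_one, map_sum]
    refine Eq.congr_left (congrArg (1 + ·) (Finset.sum_congr rfl fun j _ => ?_))
    rw [Algebra.smul_def, map_mul, lift_orb, AlgHom.id_comp]
    congr 1
    simp
  have hu1 : ∃ g : A →ₐ[R] K, 1 + ∑ j, c' j * act u₁ g (a' j) = 0 := by
    refine ⟨(1 : WithConv (A →ₐ[R] K)).ofConv, ?_⟩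
    rw [act_one, Fintype.sum_option]
    simp only [a', c', Option.elim_none, Option.elim_some, map_one, mul_one]
    ring
  have hconv : ∀ u : B →ₐ[R] K, (∑ j, c' j • (S.mat (GLin.coactAlgHom R A B (a' j))).map u) =
      ∑ i, (c' ∘ E.symm) i • (S.mat ((FiniteQuot.gdata R A B).t ((a' ∘ E.symm) i))).map u.toRingHom := fun u =>
    (Equiv.sum_comp E.symm fun j => c' j • (S.mat (GLin.coactAlgHom R A B (a' j))).map u).symm
  obtain ⟨g, hg⟩ := (hY u₀).1 (by
    rw [hconv u₀]
    refine hagree.trans ?_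
    rw [← hconv u₁]
    exact (hY u₁).2 hu1)
  refine hc g ?_
  rw [Fintype.sum_option] at hg
  simp only [a', c', Option.elim_none, Option.elim_some, map_one, mul_one] at hg
  simp only [mul_sub, Finset.sum_sub_distrib]
  linear_combination hg

end GrothLib.Inert16
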