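import Groth.Agent.Lib.Inert16.Points
import Groth.Agent.Lib.Inert16.ExistsPt
import Mathlib.AlgebraicGeometry.PullbackCarrier
import Mathlib.AlgebraicGeometry.Morphisms.Flat
import Mathlib.AlgebraicGeometry.Morphisms.FinitePresentation
import Mathlib.AlgebraicGeometry.ResidueField
import Mathlib.RingTheory.Localization.Away.Basic
import Mathlib.RingTheory.RingHom.Flat

/-!
# Trivial inertia and freeness over the quotient
-/

universe u

set_option linter.style.haveILetI false
set_option backward.isDefEq.respectTransparency false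
set_option backward.isDefEq.respectTransparency.types false

open CategoryTheory AlgebraicGeometry MonoidalCategory CartesianMonoidalCategory Opposite
open scoped MonObj
open TensorProduct WithConv HopfRep

namespace GrothLib.Inert16

variable {R : Type u} [CommRing R] {A : Type u} [CommRing A] [HopfAlgebra R A] [Module.Finite R A]
  [Module.Projective R A] {B : Type u} [CommRing B] [Algebra R B] [Comod R A B] [GLin.IsCoactAlg R A B]

omit [Module.Finite R A] [Module.Projective R A] in
theorem apply_eq_of_mem_invariants (hC : Function.Bijective (algebraMap R (GLin.invariants R A B)))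
    {K : Type u} [CommRing K] [Algebra R K] (x : B →ₐ[R] K) (c : GLin.invariants R A B) :
    ∃ r : R, algebraMap R (GLin.invariants R A B) r = c ∧ x (c : B) = algebraMap R K r := by
  obtain ⟨r, rfl⟩ := hC.2 c
  exact ⟨r, rfl, x.commutes r⟩

theorem triv_of_ker_eq (hC : Function.Bijective (algebraMap R (GLin.invariants R A B)))
    {K₁ K₂ : Type u} [Field K₁] [Algebra R K₁] [Field K₂] [Algebra R K₂]
    (hq : RingHom.ker (algebraMap R K₁) = RingHom.ker (algebraMap R K₂))
    (x₁ : B →ₐ[R] K₁) (x₂ : B →ₐ[R] K₂) (h₁ : Triv (A := A) x₁) : Triv (A := A) x₂ := by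
  rw [triv_iff] at h₁ ⊢
  haveI : (RingHom.ker x₁).IsPrime := RingHom.ker_isPrime x₁
  haveI : (RingHom.ker x₂).IsPrime := RingHom.ker_isPrime x₂
  refine not_le_of_under_eq _ _ (Ideal.ext fun c => ?_) h₁
  obtain ⟨r, -, hr₁⟩ := apply_eq_of_mem_invariants hC x₁ c
  obtain ⟨r', hr', hr₂⟩ := apply_eq_of_mem_invariants hC x₂ c
  obtain ⟨r'', hr'', hr₁'⟩ := apply_eq_of_mem_invariants hC x₁ c
  have e : r' = r'' := hC.1 (hr'.trans hr''.symm)
  change x₁ (c : B) = 0 ↔ x₂ (c : B) = 0
  rw [hr₁', hr₂, e, ← RingHom.mem_ker, ← RingHom.mem_ker, hq]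

/-- Over a local quotient, trivial inertia at one closed point gives freeness. -/
theorem J_eq_top_of_isLocalRing [IsLocalRing R] (hC : Function.Bijective (algebraMap R (GLin.invariants R A B)))
    {K : Type u} [Field K] [Algebra R K] (hK : RingHom.ker (algebraMap R K) = IsLocalRing.maximalIdeal R)
    (x : B →ₐ[R] K) (hx : Triv (A := A) x) : J R A B = ⊤ := by
  by_contra hne
  obtain ⟨m, hm, hJm⟩ := Ideal.exists_le_maximal _ hne
  haveI := hm
  haveI := isIntegral_invariants' R A B
  haveI : (RingHom.ker x).IsPrime := RingHom.ker_isPrime x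
  have hmax : (m.under (GLin.invariants R A B)).IsMaximal := Ideal.isMaximal_comap_of_isIntegral_of_isMaximal m
  refine not_le_of_under_eq (RingHom.ker x) m ?_ ((triv_iff x).1 hx) hJm
  let e : R ≃+* GLin.invariants R A B := RingEquiv.ofBijective (algebraMap R _) hC
  have h2 : (m.under (GLin.invariants R A B)).comap e = IsLocalRing.maximalIdeal R :=
    IsLocalRing.eq_maximalIdeal (Ideal.comap_isMaximal_of_surjective _ e.surjective)
  ext c
  obtain ⟨r, hr⟩ := e.surjective c
  subst hr
  change x ((algebraMap R (GLin.invariants R A B) r : GLin.invariants R A B) : B) = 0 ↔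
    e r ∈ m.under (GLin.invariants R A B)
  rw [← Ideal.mem_comap, h2, ← hK, RingHom.mem_ker, ← x.commutes r]
  rfl

omit [Module.Finite R A] [Module.Projective R A] in
theorem eq_one_of_J_eq_top (hJ : J R A B = ⊤) {T : Over (Spec (CommRingCat.of R))} (ζ : T ⟶ CoactBr.sp R B)
    (g : T ⟶ CoactBr.sp R A) (hg : lift g ζ ≫ (CoactBr.action R A B).act = ζ) : g = 1 :=
  eq_one_of_avoid ζ g (fun S _ _ _ z _ => by rw [hJ, Ideal.map_top]) hg

/-- The locus of the quotient over which the action is free. -/
theorem exists_invariant_unit {K : Type u} [Field K] [Algebra R K] (x : B →ₐ[R] K) (hx : Triv (A := A) x) :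
    ∃ c : GLin.invariants R A B, (c : B) ∈ J R A B ∧ x (c : B) ≠ 0 := by
  haveI := isIntegral_invariants' R A B
  haveI : (RingHom.ker x).IsPrime := RingHom.ker_isPrime x
  by_contra! hcon
  obtain ⟨Q, hle, hQ, hQu⟩ := Ideal.exists_ideal_over_prime_of_isIntegral (R := GLin.invariants R A B) (S := B)
    ((RingHom.ker x).under (GLin.invariants R A B)) (J R A B) (fun c hc => hcon c hc)
  exact not_le_of_under_eq (RingHom.ker x) Q hQu.symm ((triv_iff x).1 hx) hle

/-- Trivial inertia gives freeness over an open neighbourhood in the quotient. -/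
theorem exists_free_nhd {K : Type u} [Field K] [Algebra R K] (x : B →ₐ[R] K) (hx : Triv (A := A) x) :
    ∃ (Y' : Scheme.{u}) (c : Y' ⟶ Spec (CommRingCat.of (GLin.invariants R A B))),
      Flat c ∧ LocallyOfFinitePresentation c ∧
      (∃ y' : Y', c.base y' =
        (Spec.map (CommRingCat.ofHom (x.toRingHom.comp (GLin.invariants R A B).val.toRingHom))).base
          (IsLocalRing.closedPoint K)) ∧
      ∀ (T : Over (Spec (CommRingCat.of R))) (ζ : T ⟶ CoactBr.sp R B),
        (∃ t : T.left ⟶ Y', t ≫ c = ζ.left ≫ Spec.map (CommRingCat.ofHom (GLin.invariants R A B).val.toRingHom)) →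
        ∀ g : T ⟶ CoactBr.sp R A, lift g ζ ≫ (CoactBr.action R A B).act = ζ → g = 1 := by
  obtain ⟨c, hcJ, hcx⟩ := exists_invariant_unit x hx
  let C := GLin.invariants R A B
  let L := Localization.Away c
  let emb : Spec (CommRingCat.of L) ⟶ Spec (CommRingCat.of C) := Spec.map (CommRingCat.ofHom (algebraMap C L))
  haveI : IsOpenImmersion emb := IsOpenImmersion.of_isLocalization c
  let xC : C →+* K := x.toRingHom.comp C.val.toRingHom
  let xL : L →+* K := IsLocalization.Away.lift c (g := xC) (isUnit_iff_ne_zero.2 hcx)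
  have hxL : xL.comp (algebraMap C L) = xC := IsLocalization.Away.lift_comp _ _
  refine ⟨_, emb, inferInstance, inferInstance, ⟨(Spec.map (CommRingCat.ofHom xL)).base (IsLocalRing.closedPoint K), ?_⟩,
    fun T ζ ⟨t, ht⟩ g hg => eq_one_of_avoid ζ g (fun S _ _ j z hz => ?_) hg⟩
  · change (Spec.map (CommRingCat.ofHom xL) ≫ emb).base _ = _
    rw [← Spec.map_comp, ← CommRingCat.ofHom_comp, hxL]
  · let ψ : L →+* S := (Spec.preimage (j.left ≫ t)).hom
    have h1 : j.left ≫ t ≫ emb = Spec.map (CommRingCat.ofHom (z.toRingHom.comp C.val.toRingHom)) := by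
      rw [ht, ← Category.assoc, show j.left ≫ ζ.left = (CoactBr.pt z).left from congrArg CommaMorphism.left hz,
        CommRingCat.ofHom_comp, Spec.map_comp]
      rfl
    rw [← Category.assoc, ← Spec.map_preimage (j.left ≫ t), ← Spec.map_comp] at h1
    have h2 : ψ.comp (algebraMap C L) = z.toRingHom.comp C.val.toRingHom :=
      congrArg CommRingCat.Hom.hom (Spec.map_injective h1)
    have h3 : IsUnit (z (c : B)) := by
      have h4 := (IsLocalization.Away.algebraMap_isUnit c (S := L)).map ψ
      rw [← RingHom.comp_apply, h2] at h4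
      exact h4
    exact Ideal.eq_top_of_isUnit_mem _ (Ideal.mem_map_of_mem z.toRingHom hcJ) h3

/-- Freeness over a neighbourhood gives trivial inertia. -/
theorem triv_of_free_nhd {K : Type u} [Field K] [Algebra R K] (x : B →ₐ[R] K) {Y' : Scheme.{u}}
    (c : Y' ⟶ Spec (CommRingCat.of (GLin.invariants R A B))) (y' : Y')
    (hy : c.base y' =
        (Spec.map (CommRingCat.ofHom (x.toRingHom.comp (GLin.invariants R A B).val.toRingHom))).base
          (IsLocalRing.closedPoint K))
    (hfree : ∀ (T : Over (Spec (CommRingCat.of R))) (ζ : T ⟶ CoactBr.sp R B),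
        (∃ t : T.left ⟶ Y', t ≫ c = ζ.left ≫ Spec.map (CommRingCat.ofHom (GLin.invariants R A B).val.toRingHom)) →
        ∀ g : T ⟶ CoactBr.sp R A, lift g ζ ≫ (CoactBr.action R A B).act = ζ → g = 1) :
    Triv (A := A) x := by
  let π := Spec.map (CommRingCat.ofHom (x.toRingHom.comp (GLin.invariants R A B).val.toRingHom))
  obtain ⟨w, -, -⟩ := Scheme.Pullback.exists_preimage_pullback (f := c) (g := π) y' (IsLocalRing.closedPoint K) hy
  let q := (Limits.pullback c π).fromSpecResidueField w
  let L := (Limits.pullback c π).residueField w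
  let emb : K →+* L := (Spec.preimage (q ≫ Limits.pullback.snd c π)).hom
  letI : Field L := inferInstance
  letI : Algebra R L := (emb.comp (algebraMap R K)).toAlgebra
  let emb_a : K →ₐ[R] L := { emb with commutes' := fun _ => rfl }
  have hL : Triv (A := A) (emb_a.comp x) := by
    rw [triv_iff_forall]
    intro T h g hg
    refine hfree T (h ≫ CoactBr.pt (emb_a.comp x)) ⟨h.left ≫ q ≫ Limits.pullback.fst c π, ?_⟩ g hg
    rw [Category.assoc, Category.assoc, Limits.pullback.condition, ← Category.assoc q,
      ← Spec.map_preimage (q ≫ Limits.pullback.snd c π), Over.comp_left, Category.assoc]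
    congr 1
    change _ = Spec.map (CommRingCat.ofHom (emb_a.comp x).toRingHom) ≫ _
    rw [← Spec.map_comp, ← Spec.map_comp]
    rfl
  rw [triv_iff] at hL ⊢
  have hker : RingHom.ker (emb_a.comp x) = RingHom.ker x := by
    ext b
    change emb (x b) = 0 ↔ x b = 0
    exact map_eq_zero_iff emb emb.injective
  rwa [hker] at hL

end GrothLib.Inert16
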