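import Groth.Agent.Lib.Inert16.Triv
import Groth.Agent.Lib.Char16.SchemePoints
import Groth.Agent.Lib.GrpSchField.Shear
import Groth.Prelude.Def_CoactBr

/-!
# Scheme-valued points and trivial inertia
-/

universe u

set_option linter.style.haveILetI false
set_option backward.isDefEq.respectTransparency false
set_option backward.isDefEq.respectTransparency.types false

open CategoryTheory AlgebraicGeometry MonoidalCategory CartesianMonoidalCategory Opposite
open scoped MonObj
open TensorProduct WithConv HopfRep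

namespace GrothLib.Inert16

variable {R : Type u} [CommRing R]

local instance fullAlgSpecOf : (algSpec (CommRingCat.of R)).Full := algSpec.instFull

local instance faithfulAlgSpecOf : (algSpec (CommRingCat.of R)).Faithful := algSpec.instFaithful

section
variable {B K : Type u} [CommRing B] [Algebra R B] [CommRing K] [Algebra R K]

theorem exists_pt (f : CoactBr.sp R K ⟶ CoactBr.sp R B) : ∃ φ : B →ₐ[R] K, f = CoactBr.pt φ := by
  obtain ⟨q, hq⟩ := (algSpec (CommRingCat.of R)).map_surjective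
    (X := op (CommAlgCat.of R K)) (Y := op (CommAlgCat.of R B)) f
  exact ⟨q.unop.hom, hq.symm⟩

theorem pt_injective {φ ψ : B →ₐ[R] K} (h : CoactBr.pt φ = CoactBr.pt ψ) : φ = ψ := by
  have h2 := congrArg (fun q => q.unop.hom) ((algSpec (CommRingCat.of R)).map_injective h)
  simpa using h2

end

variable {A : Type u} [CommRing A] [HopfAlgebra R A] {B : Type u} [CommRing B] [Algebra R B]
  [Comod R A B] [GLin.IsCoactAlg R A B]

/-- The inverse of a point. -/
noncomputable def inv' {S : Type u} [CommRing S] [Algebra R S] (g : A →ₐ[R] S) : A →ₐ[R] S :=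
  g.comp (HopfAlgebra.antipodeAlgHom R A)

theorem inv'_inv' {S : Type u} [CommRing S] [Algebra R S] (g : A →ₐ[R] S) : inv' (inv' g) = g := by
  have h1 : toConv (inv' (inv' g)) * toConv (inv' g) = 1 := Hopf.comp_antipode_mul (inv' g)
  have h2 : toConv (inv' g) * toConv g = 1 := Hopf.comp_antipode_mul g
  refine toConv_injective ?_
  calc toConv (inv' (inv' g)) = toConv (inv' (inv' g)) * (toConv (inv' g) * toConv g) := by rw [h2, mul_one]
    _ = toConv g := by rw [← mul_assoc, h1, one_mul]

theorem inv'_one {S : Type u} [CommRing S] [Algebra R S] :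
    inv' (1 : WithConv (A →ₐ[R] S)).ofConv = (1 : WithConv (A →ₐ[R] S)).ofConv := by
  have h := Hopf.comp_antipode_mul (1 : WithConv (A →ₐ[R] S)).ofConv
  rw [toConv_ofConv, mul_one] at h
  exact congrArg WithConv.ofConv h

theorem pt_eq_one_iff {S : Type u} [CommRing S] [Algebra R S] (g : A →ₐ[R] S) :
    CoactBr.pt g = 1 ↔ g = (1 : WithConv (A →ₐ[R] S)).ofConv := by
  rw [CoactBr.one_eq_pt]
  exact ⟨fun h => pt_injective h, fun h => by rw [h]; rfl⟩

theorem fix_iff {S : Type u} [CommRing S] [Algebra R S] (g : A →ₐ[R] S) (x : B →ₐ[R] S) :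
    lift (CoactBr.pt g) (CoactBr.pt x) ≫ (CoactBr.action R A B).act = CoactBr.pt x ↔ act x (inv' g) = x := by
  rw [CoactBr.lift_pt_action_act]
  exact ⟨fun h => pt_injective h, fun h => congrArg CoactBr.pt h⟩

omit [Comod R A B] [GLin.IsCoactAlg R A B] in
/-- A point of the group is the unit if it is on affine schemes over the source. -/
theorem eq_one_of_affine {T : Over (Spec (CommRingCat.of R))} (g : T ⟶ CoactBr.sp R A)
    (h : ∀ (S : Type u) [CommRing S] [Algebra R S] (j : CoactBr.sp R S ⟶ T), j ≫ g = 1) : g = 1 := by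
  refine Over.OverMorphism.ext (T.left.affineCover.hom_ext _ _ fun i => ?_)
  let j0 := (T.left.affineCover.X i).isoSpec.inv ≫ T.left.affineCover.f i
  let φ := Spec.preimage (j0 ≫ T.hom)
  letI : Algebra R Γ(T.left.affineCover.X i, ⊤) := φ.hom.toAlgebra
  let j : CoactBr.sp R Γ(T.left.affineCover.X i, ⊤) ⟶ T := Over.homMk j0 (by
    exact (Spec.map_preimage _).symm)
  have h1 := h _ j
  rw [← MonObj.comp_one j] at h1
  have h2 : j0 ≫ g.left = j0 ≫ (1 : T ⟶ CoactBr.sp R A).left := congrArg CommaMorphism.left h1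
  simp only [j0, Category.assoc] at h2
  exact (cancel_epi _).1 h2

/-- Trivial inertia, on scheme-valued points. -/
theorem triv_iff_forall {K : Type u} [CommRing K] [Algebra R K] (x : B →ₐ[R] K) :
    Triv (A := A) x ↔ ∀ (T : Over (Spec (CommRingCat.of R))) (h : T ⟶ CoactBr.sp R K) (g : T ⟶ CoactBr.sp R A),
      lift g (h ≫ CoactBr.pt x) ≫ (CoactBr.action R A B).act = h ≫ CoactBr.pt x → g = 1 := by
  refine ⟨fun hx T h g hg => eq_one_of_affine g fun S _ _ j => ?_, fun hx S _ _ h g hg => ?_⟩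
  · obtain ⟨h', hh⟩ := exists_pt (j ≫ h)
    obtain ⟨g', hg'⟩ := exists_pt (j ≫ g)
    have h1 := congrArg (j ≫ ·) hg
    rw [comp_lift_assoc, ← Category.assoc, hg', hh, ← CoactBr.pt_comp, fix_iff] at h1
    rw [hg', pt_eq_one_iff]
    have h2 := congrArg inv' (hx S h' _ h1)
    rwa [inv'_inv', inv'_one] at h2
  · have h1 := hx _ (CoactBr.pt h) (CoactBr.pt (inv' g)) (by
      rw [← CoactBr.pt_comp, fix_iff, inv'_inv', hg])
    rw [pt_eq_one_iff] at h1
    have h2 := congrArg inv' h1
    rwa [inv'_inv', inv'_one] at h2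

/-- The action is free on points avoiding the bad locus. -/
theorem eq_one_of_avoid {T : Over (Spec (CommRingCat.of R))} (ζ : T ⟶ CoactBr.sp R B) (g : T ⟶ CoactBr.sp R A)
    (hJ : ∀ (S : Type u) [CommRing S] [Algebra R S] (j : CoactBr.sp R S ⟶ T) (z : B →ₐ[R] S),
      j ≫ ζ = CoactBr.pt z → (J R A B).map z.toRingHom = ⊤)
    (hg : lift g ζ ≫ (CoactBr.action R A B).act = ζ) : g = 1 := by
  refine eq_one_of_affine g fun S _ _ j => ?_
  obtain ⟨z, hz⟩ := exists_pt (j ≫ ζ)
  obtain ⟨g', hg'⟩ := exists_pt (j ≫ g)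
  have h1 := congrArg (j ≫ ·) hg
  rw [comp_lift_assoc, hg', hz, fix_iff] at h1
  rw [hg', pt_eq_one_iff]
  have h2 := congrArg inv' (eq_one_of_map_J_eq_top z _ (hJ S j z hz) h1)
  rwa [inv'_inv', inv'_one] at h2

/-- Conjugate points have conjugate stabilisers. -/
theorem fix_conj {T : Over (Spec (CommRingCat.of R))} (x₁ x₂ : T ⟶ CoactBr.sp R B) (g k : T ⟶ CoactBr.sp R A)
    (hg : lift g x₂ ≫ (CoactBr.action R A B).act = x₁) :
    lift k x₁ ≫ (CoactBr.action R A B).act = x₁ ↔
      lift (g⁻¹ * k * g) x₂ ≫ (CoactBr.action R A B).act = x₂ := by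
  have hinv : lift g⁻¹ x₁ ≫ (CoactBr.action R A B).act = x₂ := by
    rw [← hg, ← GrpSchField.act_mul, inv_mul_cancel, GrpSchField.act_one]
  rw [GrpSchField.act_mul, hg, GrpSchField.act_mul]
  refine ⟨fun h => by rw [h, hinv], fun h => ?_⟩
  have h2 := congrArg (fun z => lift g z ≫ (CoactBr.action R A B).act) h
  simp only [← GrpSchField.act_mul, mul_inv_cancel_left] at h2
  rwa [hg] at h2

end GrothLib.Inert16
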