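import Groth.Agent.Lib.FiniteQuot.Groupoid
import Groth.Agent.Lib.Hopf.Translate
import Mathlib.Algebra.Algebra.Epi
import Mathlib.RingTheory.Support
import Mathlib.RingTheory.LocalRing.Module

/-!
# Trivial inertia at a point of an affine action of a finite group scheme
-/

universe u

set_option linter.style.haveILetI false

open TensorProduct WithConv HopfRep

namespace GrothLib.Inert16

variable {R : Type u} [CommRing R] {A : Type u} [CommRing A] [HopfAlgebra R A]
  {B : Type u} [CommRing B] [Algebra R B] [Comod R A B] [GLin.IsCoactAlg R A B]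

section
variable {S : Type u} [CommRing S] [Algebra R S] {S' : Type u} [CommRing S'] [Algebra R S']

/-- A point moved by a point of the group, on the right. -/
noncomputable def act (x : B →ₐ[R] S) (g : A →ₐ[R] S) : B →ₐ[R] S :=
  (Algebra.TensorProduct.lift x g fun _ _ => Commute.all _ _).comp (GLin.coactAlgHom R A B)

theorem act_one (x : B →ₐ[R] S) : act x (1 : WithConv (A →ₐ[R] S)).ofConv = x := by
  refine AlgHom.ext fun b => ?_
  change Algebra.TensorProduct.lift x (1 : WithConv (A →ₐ[R] S)).ofConv (fun _ _ => Commute.all _ _) (Comod.coact (k := R) (A := A) b) = _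
  have h : ∀ z : B ⊗[R] A, Algebra.TensorProduct.lift x (1 : WithConv (A →ₐ[R] S)).ofConv
      (fun _ _ => Commute.all _ _) z =
      x (TensorProduct.rid R B ((Coalgebra.counit (R := R) (A := A)).lTensor B z)) := fun z => by
    induction z using TensorProduct.induction_on with
    | zero => simp
    | tmul p q =>
      simp [AlgHom.convOne_def, Algebra.ofId_apply, Algebra.smul_def, mul_comm]
    | add p q hp hq => simp only [map_add, hp, hq]
  have h' := LinearMap.congr_fun (Comod.counit_comp (k := R) (A := A) (V := B)) b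
  simp only [LinearMap.comp_apply] at h'
  rw [h, h']
  simp

theorem act_mul (x : B →ₐ[R] S) (g g' : WithConv (A →ₐ[R] S)) :
    act (act x g.ofConv) g'.ofConv = act x (g * g').ofConv := by
  refine AlgHom.ext fun b => ?_
  change Algebra.TensorProduct.lift (act x g.ofConv) g'.ofConv (fun _ _ => Commute.all _ _) (Comod.coact (k := R) (A := A) b) =
    Algebra.TensorProduct.lift x (g * g').ofConv (fun _ _ => Commute.all _ _) (Comod.coact (k := R) (A := A) b)
  let L : B →ₗ[R] A ⊗[R] A →ₗ[R] S := LinearMap.mk₂ R (fun c z => x c *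
      Algebra.TensorProduct.lift g.ofConv g'.ofConv (fun _ _ => Commute.all _ _) z)
    (fun c c' z => by rw [map_add, add_mul]) (fun r c z => by rw [map_smul, smul_mul_assoc])
    (fun c z z' => by rw [map_add, mul_add]) (fun r c z => by rw [map_smul, mul_smul_comm])
  have h1 : ∀ z : B ⊗[R] A, Algebra.TensorProduct.lift (act x g.ofConv) g'.ofConv (fun _ _ => Commute.all _ _) z =
      TensorProduct.lift L (TensorProduct.assoc R B A A
        ((Comod.coact (k := R) (A := A) (V := B)).rTensor A z)) := fun z => by
    induction z using TensorProduct.induction_on with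
    | zero => simp
    | tmul c a =>
      rw [LinearMap.rTensor_tmul, Algebra.TensorProduct.lift_tmul]
      change Algebra.TensorProduct.lift x g.ofConv (fun _ _ => Commute.all _ _) (Comod.coact (k := R) (A := A) c) * _ = _
      induction Comod.coact (k := R) (A := A) c using TensorProduct.induction_on with
      | zero => simp
      | tmul p q => simp [L, mul_assoc]
      | add p q hp hq => simp only [TensorProduct.add_tmul, map_add, add_mul, hp, hq]
    | add p q hp hq => simp only [map_add, hp, hq]
  have h2 : ∀ z : B ⊗[R] A, Algebra.TensorProduct.lift x (g * g').ofConv (fun _ _ => Commute.all _ _) z =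
      TensorProduct.lift L ((Coalgebra.comul (R := R) (A := A)).lTensor B z) := fun z => by
    induction z using TensorProduct.induction_on with
    | zero => simp
    | tmul c a =>
      rw [LinearMap.lTensor_tmul, Algebra.TensorProduct.lift_tmul, TensorProduct.lift.tmul, AlgHom.convMul_def]
      change _ = x c * _
      congr 1
      simp only [ofConv_toConv, AlgHom.comp_apply, Bialgebra.comulAlgHom_apply]
      induction Coalgebra.comul (R := R) a using TensorProduct.induction_on with
      | zero => simp
      | tmul p q => simp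
      | add p q hp hq => simp only [map_add, hp, hq]
    | add p q hp hq => simp only [map_add, hp, hq]
  have h3 := LinearMap.congr_fun (Comod.coassoc (k := R) (A := A) (V := B)) b
  simp only [LinearMap.comp_apply, LinearEquiv.coe_coe] at h3
  rw [h1, h2, h3]

theorem comp_act (f : S →ₐ[R] S') (x : B →ₐ[R] S) (g : A →ₐ[R] S) :
    f.comp (act x g) = act (f.comp x) (f.comp g) := by
  refine AlgHom.ext fun b => ?_
  change f (Algebra.TensorProduct.lift x g (fun _ _ => Commute.all _ _) (Comod.coact (k := R) (A := A) b)) =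
    Algebra.TensorProduct.lift (f.comp x) (f.comp g) (fun _ _ => Commute.all _ _) (Comod.coact (k := R) (A := A) b)
  induction Comod.coact (k := R) (A := A) b using TensorProduct.induction_on with
  | zero => simp
  | tmul p q => simp
  | add p q hp hq => simp only [map_add, hp, hq]

end

/-- The orbit map of a point. -/
noncomputable def orb {K : Type u} [CommRing K] [Algebra R K] (x : B →ₐ[R] K) : B →ₐ[R] K ⊗[R] A :=
  (Algebra.TensorProduct.map x (AlgHom.id R A)).comp (GLin.coactAlgHom R A B)

/-- The algebra generated by the orbit map. -/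
noncomputable def Orb {K : Type u} [CommRing K] [Algebra R K] (x : B →ₐ[R] K) : Subalgebra K (K ⊗[R] A) :=
  Algebra.adjoin K (Set.range (orb (A := A) x))

/-- The inertia at a point is trivial. -/
def Triv {K : Type u} [CommRing K] [Algebra R K] (x : B →ₐ[R] K) : Prop :=
  ∀ (S : Type u) [CommRing S] [Algebra R S] (h : K →ₐ[R] S) (g : A →ₐ[R] S),
    act (h.comp x) g = h.comp x → g = (1 : WithConv (A →ₐ[R] S)).ofConv

variable (R A B) in
/-- The ideal of functions on `X` over which the orbit map is surjective. -/
noncomputable def J : Ideal B :=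
  Module.annihilator B ((B ⊗[R] A) ⧸ (Orb (A := A) (AlgHom.id R B)).toSubmodule)

theorem lift_orb {K S : Type u} [CommRing K] [Algebra R K] [CommRing S] [Algebra R S] (h : K →ₐ[R] S)
    (g : A →ₐ[R] S) (x : B →ₐ[R] K) (b : B) :
    Algebra.TensorProduct.lift h g (fun _ _ => Commute.all _ _) (orb x b) = act (h.comp x) g b := by
  change Algebra.TensorProduct.lift h g (fun _ _ => Commute.all _ _) (Algebra.TensorProduct.map x (AlgHom.id R A)
      (Comod.coact (k := R) (A := A) b)) =
    Algebra.TensorProduct.lift (h.comp x) g (fun _ _ => Commute.all _ _) (Comod.coact (k := R) (A := A) b)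
  induction Comod.coact (k := R) (A := A) b using TensorProduct.induction_on with
  | zero => simp
  | tmul p q => simp
  | add p q hp hq => simp only [map_add, hp, hq]

theorem eq_on_Orb {K S : Type u} [CommRing K] [Algebra R K] [CommRing S] [Algebra R S] (h : K →ₐ[R] S)
    (g g' : A →ₐ[R] S) (x : B →ₐ[R] K) (hgg : act (h.comp x) g = act (h.comp x) g') :
    ∀ z ∈ Orb x, Algebra.TensorProduct.lift h g (fun _ _ => Commute.all _ _) z =
      Algebra.TensorProduct.lift h g' (fun _ _ => Commute.all _ _) z := fun z hz => by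
  induction hz using Algebra.adjoin_induction with
  | mem z hz =>
    obtain ⟨b, hb⟩ := hz
    subst hb
    rw [lift_orb, lift_orb, hgg]
  | algebraMap c => simp
  | add z z' _ _ h1 h2 => rw [map_add, map_add, h1, h2]
  | mul z z' _ _ h1 h2 => rw [map_mul, map_mul, h1, h2]

theorem triv_of_Orb_eq_top {K : Type u} [CommRing K] [Algebra R K] (x : B →ₐ[R] K) (hx : Orb (A := A) x = ⊤) :
    Triv (A := A) x := by
  intro S _ _ h g hg
  refine AlgHom.ext fun a => ?_
  have h' := eq_on_Orb h g (1 : WithConv (A →ₐ[R] S)).ofConv x (hg.trans (act_one _).symm) ((1 : K) ⊗ₜ[R] a)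
    (by rw [hx]; trivial)
  simpa using h'

theorem eq_of_triv {K : Type u} [CommRing K] [Algebra R K] (x : B →ₐ[R] K) (hx : Triv (A := A) x)
    {S : Type u} [CommRing S] [Algebra R S] (h : K →ₐ[R] S) (g g' : A →ₐ[R] S)
    (hgg : act (h.comp x) g = act (h.comp x) g') : g = g' := by
  let gi : WithConv (A →ₐ[R] S) := toConv (g'.comp (HopfAlgebra.antipodeAlgHom R A))
  have h1 : act (h.comp x) (toConv g * gi).ofConv = h.comp x := by
    rw [← act_mul]
    change act (act (h.comp x) g) gi.ofConv = _
    rw [hgg]
    refine (act_mul (h.comp x) (toConv g') gi).trans ?_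
    rw [show toConv g' * gi = 1 from Hopf.mul_pinv (toConv g'), act_one]
  have h2 : toConv g * gi = 1 := WithConv.ofConv_injective (hx S h _ h1)
  have h3 : toConv g * gi * toConv g' = toConv g' := by rw [h2, one_mul]
  rw [mul_assoc, show gi * toConv g' = 1 from Hopf.comp_antipode_mul g', mul_one] at h3
  exact toConv_injective h3

theorem Orb_eq_top_of_triv [Module.Finite R A] {K : Type u} [CommRing K] [Algebra R K] (x : B →ₐ[R] K)
    (hx : Triv (A := A) x) : Orb (A := A) x = ⊤ := by
  set O := Orb (A := A) x
  haveI : Module.Finite K (K ⊗[R] A) := Module.Finite.base_change R K A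
  haveI : Module.Finite ↥O (K ⊗[R] A) := Module.Finite.of_restrictScalars_finite K ↥O _
  let f₁ : K ⊗[R] A →ₐ[R] (K ⊗[R] A) ⊗[↥O] (K ⊗[R] A) := Algebra.TensorProduct.includeLeft
  let f₂ : K ⊗[R] A →ₐ[R] (K ⊗[R] A) ⊗[↥O] (K ⊗[R] A) :=
    (Algebra.TensorProduct.includeRight : K ⊗[R] A →ₐ[↥O] (K ⊗[R] A) ⊗[↥O] (K ⊗[R] A)).restrictScalars R
  have hO : ∀ z ∈ O, f₁ z = f₂ z := fun z hz => by
    change z ⊗ₜ[↥O] (1 : K ⊗[R] A) = (1 : K ⊗[R] A) ⊗ₜ[↥O] z
    rw [show z = (⟨z, hz⟩ : ↥O) • (1 : K ⊗[R] A) from (mul_one z).symm, TensorProduct.smul_tmul]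
  let h : K →ₐ[R] (K ⊗[R] A) ⊗[↥O] (K ⊗[R] A) := f₁.comp Algebra.TensorProduct.includeLeft
  have hh : f₂.comp Algebra.TensorProduct.includeLeft = h := AlgHom.ext fun c =>
    (hO _ (O.algebraMap_mem c)).symm
  have hg : f₁.comp Algebra.TensorProduct.includeRight = f₂.comp Algebra.TensorProduct.includeRight := by
    refine eq_of_triv x hx h _ _ (AlgHom.ext fun b => ?_)
    rw [← lift_orb, ← lift_orb]
    have e₁ : Algebra.TensorProduct.lift h (f₁.comp Algebra.TensorProduct.includeRight)
        (fun _ _ => Commute.all _ _) = f₁ := Algebra.TensorProduct.ext' fun c a => by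
      rw [Algebra.TensorProduct.lift_tmul]
      change f₁ (c ⊗ₜ 1) * f₁ (1 ⊗ₜ a) = _
      rw [← map_mul, Algebra.TensorProduct.tmul_mul_tmul, mul_one, one_mul]
    have e₂ : Algebra.TensorProduct.lift h (f₂.comp Algebra.TensorProduct.includeRight)
        (fun _ _ => Commute.all _ _) = f₂ := Algebra.TensorProduct.ext' fun c a => by
      rw [Algebra.TensorProduct.lift_tmul, ← hh]
      change f₂ (c ⊗ₜ 1) * f₂ (1 ⊗ₜ a) = _
      rw [← map_mul, Algebra.TensorProduct.tmul_mul_tmul, mul_one, one_mul]
    rw [e₁, e₂]
    exact hO _ (Algebra.subset_adjoin ⟨b, rfl⟩)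
  have hf : f₁ = f₂ := by
    refine Algebra.TensorProduct.ext' fun c a => ?_
    rw [show (c : K) ⊗ₜ[R] a = (c ⊗ₜ (1 : A)) * ((1 : K) ⊗ₜ a) by
      rw [Algebra.TensorProduct.tmul_mul_tmul, mul_one, one_mul], map_mul, map_mul]
    exact congrArg₂ (· * ·) (AlgHom.congr_fun hh c).symm (AlgHom.congr_fun hg a)
  have hepi : Algebra.IsEpi ↥O (K ⊗[R] A) :=
    (Algebra.isEpi_iff_forall_one_tmul_eq _ _).2 fun z => (AlgHom.congr_fun hf z).symm
  refine Algebra.eq_top_iff.2 fun z => ?_
  obtain ⟨o, ho⟩ := Algebra.isEpi_iff_surjective_algebraMap_of_finite.1 hepi z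
  exact ho ▸ o.2

theorem map_mem_Orb {K : Type u} [CommRing K] [Algebra R K] (x : B →ₐ[R] K) :
    ∀ z ∈ Orb (A := A) (AlgHom.id R B), Algebra.TensorProduct.map x (AlgHom.id R A) z ∈ Orb (A := A) x :=
  fun z hz => by
  induction hz using Algebra.adjoin_induction with
  | mem z hz =>
    obtain ⟨b, hb⟩ := hz
    subst hb
    refine Algebra.subset_adjoin ⟨b, ?_⟩
    simp [orb]
  | algebraMap c =>
    have h : Algebra.TensorProduct.map x (AlgHom.id R A) (algebraMap B (B ⊗[R] A) c) =
        algebraMap K (K ⊗[R] A) (x c) := by simp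
    rw [h]
    exact Subalgebra.algebraMap_mem _ _
  | add z z' _ _ h1 h2 => rw [map_add]; exact add_mem h1 h2
  | mul z z' _ _ h1 h2 => rw [map_mul]; exact mul_mem h1 h2

theorem smul_mem_of_mem_J {b : B} (hb : b ∈ J R A B) (z : B ⊗[R] A) :
    b • z ∈ Orb (A := A) (AlgHom.id R B) := by
  have h := Module.mem_annihilator.1 hb (Submodule.Quotient.mk z)
  rwa [← Submodule.Quotient.mk_smul, Submodule.Quotient.mk_eq_zero] at h

/-- Triviality of the inertia depends only on the prime under the point. -/
theorem triv_iff [Module.Finite R A] {K : Type u} [Field K] [Algebra R K] (x : B →ₐ[R] K) :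
    Triv (A := A) x ↔ ¬ J R A B ≤ RingHom.ker x := by
  refine ⟨fun hx hle => ?_, fun h => triv_of_Orb_eq_top x ?_⟩
  · have hOrb := Orb_eq_top_of_triv x hx
    let p : PrimeSpectrum B := ⟨RingHom.ker x, RingHom.ker_isPrime x⟩
    haveI : p.asIdeal.IsPrime := p.isPrime
    set O := (Orb (A := A) (AlgHom.id R B)).toSubmodule
    haveI : Module.Finite B (B ⊗[R] A) := Module.Finite.base_change R B A
    haveI : Module.Finite B ((B ⊗[R] A) ⧸ O) := Module.Finite.quotient B O
    have hp : p ∈ Module.support B ((B ⊗[R] A) ⧸ O) := by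
      rw [Module.support_eq_zeroLocus]
      exact hle
    haveI := (Module.mem_support_iff_nontrivial_residueField_tensorProduct p).1 hp
    obtain ⟨v, hv⟩ := exists_ne (0 : p.asIdeal.ResidueField ⊗[B] ((B ⊗[R] A) ⧸ O))
    obtain ⟨f, hf⟩ : ∃ f : Module.Dual p.asIdeal.ResidueField
        (p.asIdeal.ResidueField ⊗[B] ((B ⊗[R] A) ⧸ O)), f v ≠ 0 := by
      by_contra! hno
      exact hv ((Module.forall_dual_apply_eq_zero_iff _ v).1 hno)
    let ι : p.asIdeal.ResidueField →+* K := Ideal.ResidueField.lift p.asIdeal x.toRingHom le_rfl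
      (fun r hr => isUnit_iff_ne_zero.mpr hr)
    have hι : ∀ r, ι (algebraMap B _ r) = x r := fun r => Ideal.ResidueField.lift_algebraMap _ _ _ _ r
    let lam : (B ⊗[R] A) →+ K :=
      ι.toAddMonoidHom.comp (f.toAddMonoidHom.comp
        (((TensorProduct.mk B p.asIdeal.ResidueField ((B ⊗[R] A) ⧸ O) 1) ∘ₗ O.mkQ).toAddMonoidHom))
    have hlam : ∀ (b : B) z, lam (b • z) = x b * lam z := fun b z => by
      simp only [lam, AddMonoidHom.comp_apply, LinearMap.toAddMonoidHom_coe, RingHom.toAddMonoidHom_eq_coe,
        AddMonoidHom.coe_coe, map_smul]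
      rw [← hι, ← map_mul]
      congr 1
      rw [LinearMap.map_smul_of_tower, Algebra.smul_def]
    let Λ : K ⊗[R] A →ₗ[K] K := LinearMap.liftBaseChange K
      { toFun := fun a => lam ((1 : B) ⊗ₜ a)
        map_add' := fun a a' => by rw [TensorProduct.tmul_add, map_add]
        map_smul' := fun r a => by
          rw [TensorProduct.tmul_smul, ← IsScalarTower.algebraMap_smul B r, hlam, AlgHom.commutes, RingHom.id_apply,
            Algebra.smul_def] }
    have hΛ : ∀ z : B ⊗[R] A, Λ (Algebra.TensorProduct.map x (AlgHom.id R A) z) = lam z := fun z => by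
      induction z using TensorProduct.induction_on with
      | zero => simp
      | tmul b a =>
        rw [Algebra.TensorProduct.map_tmul, LinearMap.liftBaseChange_tmul]
        change x b * lam (1 ⊗ₜ a) = _
        rw [← hlam, TensorProduct.smul_tmul', smul_eq_mul, mul_one]
      | add z z' h1 h2 => simp only [map_add, h1, h2]
    have hzero : ∀ z ∈ Orb (A := A) x, ∀ w ∈ Orb (A := A) (AlgHom.id R B),
        Λ (z * Algebra.TensorProduct.map x (AlgHom.id R A) w) = 0 := fun z hz => by
      induction hz using Algebra.adjoin_induction with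
      | mem z hz =>
        obtain ⟨b, hb⟩ := hz
        subst hb
        intro w hw
        have e : orb (A := A) x b = Algebra.TensorProduct.map x (AlgHom.id R A) (orb (AlgHom.id R B) b) := by
          simp [orb]
        rw [e, ← map_mul, hΛ]
        have hm : orb (AlgHom.id R B) b * w ∈ Orb (A := A) (AlgHom.id R B) :=
          mul_mem (Algebra.subset_adjoin ⟨b, rfl⟩) hw
        have h0 : O.mkQ (orb (AlgHom.id R B) b * w) = 0 := (Submodule.Quotient.mk_eq_zero O).2 hm
        simp [lam, h0]
      | algebraMap c =>
        intro w hw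
        rw [← Algebra.smul_def, map_smul, hΛ]
        have h0 : O.mkQ w = 0 := (Submodule.Quotient.mk_eq_zero O).2 hw
        simp [lam, h0]
      | add z z' _ _ h1 h2 => intro w hw; rw [add_mul, map_add, h1 w hw, h2 w hw, add_zero]
      | mul z z' hz hz' h1 h2 =>
        intro w hw
        have hspan : z' ∈ Submodule.span K (Set.range fun u : ↥(Orb (A := A) (AlgHom.id R B)) =>
            Algebra.TensorProduct.map x (AlgHom.id R A) (u : B ⊗[R] A)) := by
          clear h1 h2 hz
          induction hz' using Algebra.adjoin_induction with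
          | mem z hz =>
            obtain ⟨b, hb⟩ := hz
            subst hb
            exact Submodule.subset_span ⟨⟨_, Algebra.subset_adjoin ⟨b, rfl⟩⟩, by simp [orb]⟩
          | algebraMap c =>
            rw [Algebra.algebraMap_eq_smul_one]
            exact Submodule.smul_mem _ _ (Submodule.subset_span ⟨1, map_one _⟩)
          | add z z' _ _ h1 h2 => exact add_mem h1 h2
          | mul z z' _ _ h1 h2 =>
            refine (Submodule.mul_le.2 (fun u hu v hv => ?_) :
              (Submodule.span K (Set.range fun u : ↥(Orb (A := A) (AlgHom.id R B)) =>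
                Algebra.TensorProduct.map x (AlgHom.id R A) (u : B ⊗[R] A))) * _ ≤ _) (Submodule.mul_mem_mul h1 h2)
            induction hu using Submodule.span_induction with
            | mem u hu =>
              induction hv using Submodule.span_induction with
              | mem v hv =>
                obtain ⟨u', hu'⟩ := hu
                obtain ⟨v', hv'⟩ := hv
                subst hu' hv'
                exact Submodule.subset_span ⟨u' * v', map_mul _ _ _⟩
              | zero => rw [mul_zero]; exact zero_mem _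
              | add a b _ _ ha hb => rw [mul_add]; exact add_mem ha hb
              | smul c a _ ha => rw [mul_smul_comm]; exact Submodule.smul_mem _ _ ha
            | zero => rw [zero_mul]; exact zero_mem _
            | add a b _ _ ha hb => rw [add_mul]; exact add_mem ha hb
            | smul c a _ ha => rw [smul_mul_assoc]; exact Submodule.smul_mem _ _ ha
        clear h2 hz'
        induction hspan using Submodule.span_induction with
        | mem u hu =>
          obtain ⟨u', hu'⟩ := hu
          subst hu'
          rw [mul_assoc, ← map_mul]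
          exact h1 _ (mul_mem u'.2 hw)
        | zero => simp
        | add a b _ _ ha hb => rw [mul_add, add_mul, map_add, ha, hb, add_zero]
        | smul c a _ ha => rw [mul_smul_comm, smul_mul_assoc, map_smul, ha, smul_zero]
    have hΛ0 : ∀ z, lam z = 0 := fun z => by
      have h := hzero (Algebra.TensorProduct.map x (AlgHom.id R A) z) (by rw [hOrb]; trivial) 1 (one_mem _)
      rwa [map_one, mul_one, hΛ] at h
    refine hf ?_
    clear hf hv hzero hΛ hlam Λ
    induction v using TensorProduct.induction_on with
    | zero => rw [map_zero]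
    | tmul c m =>
      obtain ⟨z, hz⟩ := O.mkQ_surjective m
      have h : f ((1 : p.asIdeal.ResidueField) ⊗ₜ[B] m) = 0 := by
        refine (map_eq_zero_iff ι ι.injective).1 ?_
        rw [← hz]
        exact hΛ0 z
      rw [show c ⊗ₜ[B] m = c • ((1 : p.asIdeal.ResidueField) ⊗ₜ[B] m) by
        rw [TensorProduct.smul_tmul', smul_eq_mul, mul_one], map_smul, h, smul_zero]
    | add a b ha hb => rw [map_add, ha, hb, add_zero]
  · obtain ⟨b, hb, hbx⟩ := SetLike.not_le_iff_exists.1 h
    refine Algebra.eq_top_iff.2 fun z => ?_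
    induction z using TensorProduct.induction_on with
    | zero => exact zero_mem _
    | tmul c a =>
      have h1 := map_mem_Orb x _ (smul_mem_of_mem_J (A := A) hb ((1 : B) ⊗ₜ[R] a))
      rw [TensorProduct.smul_tmul', smul_eq_mul, mul_one, Algebra.TensorProduct.map_tmul] at h1
      have h2 := (Orb (A := A) x).smul_mem h1 (c * (x b)⁻¹)
      rw [TensorProduct.smul_tmul', smul_eq_mul, mul_assoc,
        inv_mul_cancel₀ (show x b ≠ 0 from hbx), mul_one] at h2
      exact h2
    | add a a' ha ha' => exact add_mem ha ha'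

/-- Trivial inertia is invariant under translation. -/
theorem triv_act [Module.Finite R A] {K : Type u} [Field K] [Algebra R K] (x : B →ₐ[R] K) (g : A →ₐ[R] K)
    (hx : Triv (A := A) x) : Triv (A := A) (act x g) := by
  intro S _ _ h g' hg'
  rw [comp_act] at hg'
  set G : WithConv (A →ₐ[R] S) := toConv (h.comp g)
  let Gi : WithConv (A →ₐ[R] S) := toConv ((h.comp g).comp (HopfAlgebra.antipodeAlgHom R A))
  have h1 : act (h.comp x) (G * toConv g' * Gi).ofConv = h.comp x := by
    rw [← act_mul, ← act_mul]
    change act (act (act (h.comp x) (h.comp g)) g') Gi.ofConv = _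
    rw [hg']
    refine (act_mul (h.comp x) G Gi).trans ?_
    rw [show G * Gi = 1 from Hopf.mul_pinv G, act_one]
  have h2 : G * toConv g' * Gi = 1 := WithConv.ofConv_injective (hx S h _ h1)
  have h3 : Gi * (G * toConv g' * Gi) * G = 1 := by
    rw [h2, mul_one, show Gi * G = 1 from Hopf.comp_antipode_mul (h.comp g)]
  rw [← mul_assoc, ← mul_assoc, show Gi * G = 1 from Hopf.comp_antipode_mul (h.comp g), one_mul, mul_assoc,
    show Gi * G = 1 from Hopf.comp_antipode_mul (h.comp g), mul_one] at h3
  exact congrArg WithConv.ofConv h3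

section Primes

variable [Module.Finite R A] [Module.Projective R A]

omit [Module.Finite R A] [Module.Projective R A] in
theorem toAlgebra_eq' : ((FiniteQuot.gdata R A B).s).toAlgebra = (inferInstance : Algebra B (B ⊗[R] A)) :=
  Algebra.algebra_ext _ _ fun _ => rfl

theorem finite_src' : @Module.Finite B (B ⊗[R] A) _ _ ((FiniteQuot.gdata R A B).s).toAlgebra.toModule := by
  rw [toAlgebra_eq']
  exact Module.Finite.base_change R B A

theorem projective_src' : @Module.Projective B _ (B ⊗[R] A) _ ((FiniteQuot.gdata R A B).s).toAlgebra.toModule := by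
  rw [toAlgebra_eq']
  infer_instance

variable (R A B) in
theorem isIntegral_invariants' : Algebra.IsIntegral (GLin.invariants R A B) B := by
  haveI hint := @GrpdQuot.GData.isIntegral_inv _ _ _ _ _ _ (FiniteQuot.gdata R A B) finite_src' projective_src'
  refine ⟨fun r => ?_⟩
  obtain ⟨P, hP, hev⟩ := Algebra.IsIntegral.isIntegral (R := (FiniteQuot.gdata R A B).inv) r
  let e : (FiniteQuot.gdata R A B).inv →+* GLin.invariants R A B :=
    { toFun := fun a => ⟨a.1, (FiniteQuot.mem_inv_iff a.1).1 a.2⟩, map_one' := rfl, map_mul' := fun _ _ => rfl,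
      map_zero' := rfl, map_add' := fun _ _ => rfl }
  refine ⟨P.map e, hP.map _, ?_⟩
  rw [Polynomial.eval₂_map]
  exact hev

/-- Trivial inertia spreads over the fibres of the quotient map. -/
theorem not_le_of_under_eq (q q' : Ideal B) [q.IsPrime] [q'.IsPrime]
    (h : q.under (GLin.invariants R A B) = q'.under (GLin.invariants R A B))
    (hq : ¬ J R A B ≤ q) : ¬ J R A B ≤ q' := by
  obtain ⟨P, hP, hs, ht⟩ := @GrpdQuot.GData.exists_prime_of_comap_eq _ _ _ _ _ _ (FiniteQuot.gdata R A B)
    finite_src' projective_src' q q' _ _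
    (Ideal.ext fun a => Ideal.ext_iff.1 h ⟨a.1, (FiniteQuot.mem_inv_iff a.1).1 a.2⟩)
  haveI := hP
  let π : B ⊗[R] A →ₐ[R] P.ResidueField := IsScalarTower.toAlgHom R (B ⊗[R] A) P.ResidueField
  let x : B →ₐ[R] P.ResidueField := π.comp Algebra.TensorProduct.includeLeft
  let g : A →ₐ[R] P.ResidueField := π.comp Algebra.TensorProduct.includeRight
  have hkx : RingHom.ker x = q := by
    rw [← hs]
    ext b
    exact Ideal.algebraMap_residueField_eq_zero
  have hky : RingHom.ker (act x g) = q' := by
    have e : act x g = π.comp (GLin.coactAlgHom R A B) := by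
      refine AlgHom.ext fun b => ?_
      change Algebra.TensorProduct.lift x g (fun _ _ => Commute.all _ _) (Comod.coact (k := R) (A := A) b) =
        π (Comod.coact (k := R) (A := A) b)
      induction Comod.coact (k := R) (A := A) b using TensorProduct.induction_on with
      | zero => simp
      | tmul p q => simp [x, g, ← map_mul]
      | add p q hp hq => simp only [map_add, hp, hq]
    rw [e, ← ht]
    ext b
    exact Ideal.algebraMap_residueField_eq_zero
  have h1 : Triv (A := A) x := (triv_iff x).2 (by rw [hkx]; exact hq)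
  have h2 := (triv_iff _).1 (triv_act x g h1)
  rwa [hky] at h2

end Primes

/-- Points avoiding the bad locus have trivial stabilisers. -/
theorem eq_one_of_map_J_eq_top {S : Type u} [CommRing S] [Algebra R S] (ζ : B →ₐ[R] S) (g : A →ₐ[R] S)
    (hJ : (J R A B).map ζ.toRingHom = ⊤) (hg : act ζ g = ζ) : g = (1 : WithConv (A →ₐ[R] S)).ofConv := by
  refine AlgHom.ext fun a => ?_
  have h : ∀ b ∈ J R A B, ζ b * (g a - (1 : WithConv (A →ₐ[R] S)).ofConv a) = 0 := fun b hb => by
    have hz := eq_on_Orb (x := AlgHom.id R B) ζ g (1 : WithConv (A →ₐ[R] S)).ofConv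
      (by rw [AlgHom.comp_id, hg, act_one]) _ (smul_mem_of_mem_J (A := A) hb ((1 : B) ⊗ₜ[R] a))
    rw [TensorProduct.smul_tmul', smul_eq_mul, mul_one, Algebra.TensorProduct.lift_tmul,
      Algebra.TensorProduct.lift_tmul] at hz
    rw [mul_sub, hz, sub_self]
  have h2 : ∀ s ∈ (J R A B).map ζ.toRingHom, s * (g a - (1 : WithConv (A →ₐ[R] S)).ofConv a) = 0 := fun s hs => by
    induction hs using Submodule.span_induction with
    | mem s hs => obtain ⟨b, hb, hbs⟩ := hs; subst hbs; exact h b hb
    | zero => rw [zero_mul]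
    | add s t _ _ hs ht => rw [add_mul, hs, ht, add_zero]
    | smul c s _ hs => rw [smul_eq_mul, mul_assoc, hs, mul_zero]
  exact sub_eq_zero.1 (by simpa using h2 1 (by rw [hJ]; trivial))

end GrothLib.Inert16
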